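import Groth.Agent.Lib.TameFlat13.Local
import Groth.Agent.Lib.Tame.Value
import Groth.Agent.Lib.Tame.DetDevissage
import Mathlib.LinearAlgebra.Charpoly.BaseChange
import Mathlib.RingTheory.TensorProduct.Quotient

/-! The fibre of a base change of a finite algebra over a maximal ideal. -/

set_option autoImplicit false
universe u

namespace GrothLib.TameFlat13

open IsLocalRing GrothLib.LengthDet GrothLib.Tame TensorProduct

attribute [local instance] Algebra.TensorProduct.rightAlgebra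

variable {A A' : Type u} [CommRing A] [IsLocalRing A] [CommRing A'] [Algebra A A'] (C : Type u) [CommRing C]
  [Algebra A C] [Module.Finite A C]

/-- The ideal of the fibre over `q`, modulo `N`. -/
abbrev fibIdeal (N : Ideal A') (q : Ideal C) : Ideal (A' ⊗[A] C) :=
  N.map (algebraMap A' (A' ⊗[A] C)) ⊔ q.map (algebraMap C (A' ⊗[A] C))

variable {C} (N : Ideal A') (hN : (maximalIdeal A).map (algebraMap A A') ≤ N) (q : Ideal C) [q.IsMaximal]

/-- The structure map of the fibre over the residue field. -/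
@[reducible] def baseAlg (hN : (maximalIdeal A).map (algebraMap A A') ≤ N) : Algebra (A ⧸ maximalIdeal A) (A' ⧸ N) :=
  Ideal.Quotient.algebraQuotientOfLEComap (Ideal.map_le_iff_le_comap.1 hN)

include hN in
theorem exists_equiv :
    letI := baseAlg N hN
    letI : Algebra (A' ⧸ N) ((A' ⊗[A] C) ⧸ fibIdeal (A := A) C N q) :=
      Ideal.Quotient.algebraQuotientOfLEComap (Ideal.map_le_iff_le_comap.1 le_sup_left)
    ∃ e : ((A' ⧸ N) ⊗[A ⧸ maximalIdeal A] (C ⧸ q)) ≃ₐ[A' ⧸ N] ((A' ⊗[A] C) ⧸ fibIdeal (A := A) C N q),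
      ∀ c : C, e (1 ⊗ₜ Ideal.Quotient.mk q c) = Ideal.Quotient.mk _ ((1 : A') ⊗ₜ[A] c) := by
  letI := baseAlg N hN
  letI : Algebra (A' ⧸ N) ((A' ⊗[A] C) ⧸ fibIdeal (A := A) C N q) :=
    Ideal.Quotient.algebraQuotientOfLEComap (Ideal.map_le_iff_le_comap.1 le_sup_left)
  haveI : IsScalarTower A (A ⧸ maximalIdeal A) (A' ⧸ N) := IsScalarTower.of_algebraMap_eq fun _ => rfl
  haveI : IsScalarTower A (A ⧸ maximalIdeal A) (C ⧸ q) := IsScalarTower.of_algebraMap_eq fun _ => rfl
  set κ := A ⧸ maximalIdeal A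
  set R := (A' ⊗[A] C) ⧸ fibIdeal (A := A) C N q
  -- into the tensor product over the residue field
  let φ : (A' ⊗[A] C) →+* ((A' ⧸ N) ⊗[κ] (C ⧸ q)) :=
    (Algebra.TensorProduct.lift
      (((Algebra.TensorProduct.includeLeft : (A' ⧸ N) →ₐ[κ] (A' ⧸ N) ⊗[κ] (C ⧸ q)).restrictScalars A).comp (Ideal.Quotient.mkₐ A N))
      ((((Algebra.TensorProduct.includeRight : (C ⧸ q) →ₐ[κ] (A' ⧸ N) ⊗[κ] (C ⧸ q))).restrictScalars A).comp
        (Ideal.Quotient.mkₐ A q))
      (fun _ _ => Commute.all _ _) : (A' ⊗[A] C) →ₐ[A] _).toRingHom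
  have hφ : ∀ (a : A') (c : C), φ (a ⊗ₜ c) = Ideal.Quotient.mk N a ⊗ₜ Ideal.Quotient.mk q c := fun a c => by
    show (Algebra.TensorProduct.lift _ _ _ : (A' ⊗[A] C) →ₐ[A] _) (a ⊗ₜ c) = _
    rw [Algebra.TensorProduct.lift_tmul]
    simp [Algebra.TensorProduct.tmul_mul_tmul]
  have hker : ∀ x ∈ fibIdeal (A := A) C N q, φ x = 0 := by
    intro x hx
    refine RingHom.mem_ker.1 ((sup_le ?_ ?_ : fibIdeal (A := A) C N q ≤ RingHom.ker φ) hx)
    · rw [Ideal.map_le_iff_le_comap]
      intro a ha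
      rw [Ideal.mem_comap, RingHom.mem_ker, Algebra.TensorProduct.algebraMap_apply, Algebra.algebraMap_self_apply, hφ,
        Ideal.Quotient.eq_zero_iff_mem.2 ha, TensorProduct.zero_tmul]
    · rw [Ideal.map_le_iff_le_comap]
      intro c hc
      rw [Ideal.mem_comap, RingHom.mem_ker, Algebra.TensorProduct.right_algebraMap_apply, hφ,
        Ideal.Quotient.eq_zero_iff_mem.2 hc, TensorProduct.tmul_zero]
  let g : R →+* ((A' ⧸ N) ⊗[κ] (C ⧸ q)) := Ideal.Quotient.lift _ φ hker
  -- and back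
  letI : Algebra κ R := ((algebraMap (A' ⧸ N) R).comp (algebraMap κ (A' ⧸ N))).toAlgebra
  haveI : IsScalarTower κ (A' ⧸ N) R := IsScalarTower.of_algebraMap_eq fun _ => rfl
  let ψ : (C ⧸ q) →ₐ[κ] R :=
    { Ideal.Quotient.lift q ((Ideal.Quotient.mk _).comp (algebraMap C (A' ⊗[A] C))) (fun c hc =>
        Ideal.Quotient.eq_zero_iff_mem.2 (Ideal.mem_sup_right (Ideal.mem_map_of_mem _ hc))) with
      commutes' := fun x => by
        obtain ⟨x, rfl⟩ := Ideal.Quotient.mk_surjective x
        show Ideal.Quotient.mk (fibIdeal (A := A) C N q) ((1 : A') ⊗ₜ[A] algebraMap A C x) =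
          Ideal.Quotient.mk _ (algebraMap A A' x ⊗ₜ[A] (1 : C))
        rw [Algebra.algebraMap_eq_smul_one, Algebra.algebraMap_eq_smul_one, TensorProduct.smul_tmul] }
  let h : ((A' ⧸ N) ⊗[κ] (C ⧸ q)) →ₐ[A' ⧸ N] R :=
    Algebra.TensorProduct.lift (Algebra.ofId _ _) ψ (fun _ _ => Commute.all _ _)
  have hh : ∀ (a : A') (c : C), h (Ideal.Quotient.mk N a ⊗ₜ Ideal.Quotient.mk q c) =
      Ideal.Quotient.mk _ (a ⊗ₜ[A] c) := fun a c => by
    show (Algebra.TensorProduct.lift _ _ _ : _ →ₐ[A' ⧸ N] R) _ = _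
    rw [Algebra.TensorProduct.lift_tmul]
    show Ideal.Quotient.mk (fibIdeal (A := A) C N q) (a ⊗ₜ[A] 1) * Ideal.Quotient.mk _ ((1 : A') ⊗ₜ[A] c) = _
    rw [← map_mul, Algebra.TensorProduct.tmul_mul_tmul, mul_one, one_mul]
  have hhg : ∀ r, h (g r) = r := by
    intro r
    obtain ⟨x, rfl⟩ := Ideal.Quotient.mk_surjective r
    show h (φ x) = _
    induction x using TensorProduct.induction_on with
    | zero => simp
    | tmul a c => rw [hφ, hh]
    | add x y hx hy => rw [map_add, map_add, hx, hy, map_add]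
  have hgh : ∀ z, g (h z) = z := by
    intro z
    induction z using TensorProduct.induction_on with
    | zero => simp
    | tmul a c =>
      obtain ⟨a, rfl⟩ := Ideal.Quotient.mk_surjective a
      obtain ⟨c, rfl⟩ := Ideal.Quotient.mk_surjective c
      rw [hh]
      exact hφ a c
    | add x y hx hy => rw [map_add, map_add, hx, hy]
  refine ⟨AlgEquiv.ofBijective h ⟨Function.LeftInverse.injective hgh, Function.RightInverse.surjective hhg⟩, fun c => ?_⟩
  exact hh 1 c

include hN in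
theorem flat_fibre :
    letI : Algebra (A' ⧸ N) ((A' ⊗[A] C) ⧸ fibIdeal (A := A) C N q) :=
      Ideal.Quotient.algebraQuotientOfLEComap (Ideal.map_le_iff_le_comap.1 le_sup_left)
    Module.Flat (A' ⧸ N) ((A' ⊗[A] C) ⧸ fibIdeal (A := A) C N q) ∧
      Module.Finite (A' ⧸ N) ((A' ⊗[A] C) ⧸ fibIdeal (A := A) C N q) := by
  letI := baseAlg N hN
  letI : Field (A ⧸ maximalIdeal A) := Ideal.Quotient.field _
  letI : Algebra (A' ⧸ N) ((A' ⊗[A] C) ⧸ fibIdeal (A := A) C N q) :=
    Ideal.Quotient.algebraQuotientOfLEComap (Ideal.map_le_iff_le_comap.1 le_sup_left)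
  haveI := finite_quot (A := A) q
  obtain ⟨e, -⟩ := exists_equiv N hN q
  exact ⟨Module.Flat.of_linearEquiv e.symm.toLinearEquiv, Module.Finite.equiv e.toLinearEquiv⟩

/-- The norm after base change is the determinant on any model of the base change. -/
theorem det_kmul_eq_norm (k k' K R : Type u) [Field k] [Field k'] [Algebra k k'] [CommRing K] [Algebra k K]
    [Module.Finite k K] [CommRing R] [Algebra k' R] (e : (k' ⊗[k] K) ≃ₐ[k'] R) (x : K) :
    LinearMap.det (kmul k' (e (1 ⊗ₜ x)) R) = algebraMap k k' (Algebra.norm k x) := by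
  rw [Algebra.norm_apply, ← LinearMap.det_baseChange, Algebra.baseChange_lmul,
    ← LinearMap.det_conj (Algebra.lmul k' _ _) e.toLinearEquiv]
  congr 1
  ext r
  obtain ⟨z, rfl⟩ := e.surjective r
  simp [kmul]

section main

variable [IsLocalRing A'] [IsLocalHom (algebraMap A A')]

omit [Module.Finite A C] in
theorem map_max_le : (maximalIdeal A).map (algebraMap A A') ≤ maximalIdeal A' :=
  Ideal.map_le_iff_le_comap.2 fun x hx => fun h => (mem_maximalIdeal x).1 hx (IsLocalHom.map_nonunit x h)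

theorem fibIdeal_map_max :
    fibIdeal (A := A) C ((maximalIdeal A).map (algebraMap A A')) q = q.map (algebraMap C (A' ⊗[A] C)) := by
  refine sup_eq_right.2 ?_
  rw [Ideal.map_map, Ideal.map_le_iff_le_comap]
  intro a ha
  rw [Ideal.mem_comap, RingHom.comp_apply, Algebra.TensorProduct.algebraMap_apply, Algebra.algebraMap_self_apply,
    Algebra.algebraMap_eq_smul_one, TensorProduct.smul_tmul, ← Algebra.algebraMap_eq_smul_one,
    ← Algebra.TensorProduct.right_algebraMap_apply]
  exact Ideal.mem_map_of_mem _ ((liesOver_max (A := A) q).over ▸ ha :)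

include hN in
theorem len_fibre_aux (hNm : N ≤ maximalIdeal A') (Q : Ideal (A' ⊗[A] C)) [Q.IsPrime]
    (hQ : fibIdeal (A := A) C (maximalIdeal A') q ≤ Q) :
    len Q (fibIdeal (A := A) C N q) =
      Module.length A' (A' ⧸ N) * len Q (fibIdeal (A := A) C (maximalIdeal A') q) := by
  letI : Algebra (A' ⧸ N) ((A' ⊗[A] C) ⧸ fibIdeal (A := A) C N q) :=
    Ideal.Quotient.algebraQuotientOfLEComap (Ideal.map_le_iff_le_comap.1 le_sup_left)
  haveI := (flat_fibre N hN q).1
  haveI : Nontrivial (A' ⧸ N) := Ideal.Quotient.nontrivial_iff.2 fun h =>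
    (maximalIdeal.isMaximal A').ne_top (top_le_iff.1 (h ▸ hNm))
  haveI : IsLocalRing (A' ⧸ N) := IsLocalRing.of_surjective' _ Ideal.Quotient.mk_surjective
  have hmax : (maximalIdeal (A' ⧸ N)).comap (Ideal.Quotient.mk N) = maximalIdeal A' :=
    eq_maximalIdeal (Ideal.comap_isMaximal_of_surjective _ Ideal.Quotient.mk_surjective)
  have hmap : maximalIdeal (A' ⧸ N) = (maximalIdeal A').map (Ideal.Quotient.mk N) := by
    rw [← hmax, Ideal.map_comap_of_surjective _ Ideal.Quotient.mk_surjective]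
  have hle : (fibIdeal (A := A) C N q) ≤ fibIdeal (A := A) C (maximalIdeal A') q := sup_le_sup_right (Ideal.map_mono hNm) _
  let Qb : Ideal ((A' ⊗[A] C) ⧸ (fibIdeal (A := A) C N q)) := Q.map (Ideal.Quotient.mk (fibIdeal (A := A) C N q))
  haveI : Qb.IsPrime := Ideal.isPrime_map_quotientMk_of_isPrime (hle.trans hQ)
  have hQb : Qb.comap (Ideal.Quotient.mk (fibIdeal (A := A) C N q)) = Q := Ideal.comap_map_mk (hle.trans hQ)
  have hQF : Qb.comap (algebraMap (A' ⧸ N) ((A' ⊗[A] C) ⧸ (fibIdeal (A := A) C N q))) = maximalIdeal (A' ⧸ N) := by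
    refine ((maximalIdeal.isMaximal _).eq_of_le (Ideal.IsPrime.ne_top inferInstance) ?_).symm
    rw [hmap, Ideal.map_le_iff_le_comap]
    intro a ha
    show Ideal.Quotient.mk (fibIdeal (A := A) C N q) (algebraMap A' _ a) ∈ Qb
    exact Ideal.mem_map_of_mem _ (hQ (Ideal.mem_sup_left (Ideal.mem_map_of_mem _ ha)))
  have h := len_map (maximalIdeal (A' ⧸ N)) Qb hQF ⊥
  have h1 : len Qb (⊥ : Ideal ((A' ⊗[A] C) ⧸ (fibIdeal (A := A) C N q))) = len Q (fibIdeal (A := A) C N q) := by
    rw [← len_mk (fibIdeal (A := A) C N q) Qb ⊥, ← RingHom.ker_eq_comap_bot, Ideal.mk_ker]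
    simp [hQb]
  have h2 : len (maximalIdeal (A' ⧸ N)) ⊥ = Module.length A' (A' ⧸ N) := by
    rw [len_maximalIdeal, (Submodule.quotEquivOfEqBot (⊥ : Ideal (A' ⧸ N)) rfl).length_eq]
    exact (Module.length_eq_of_surjective (S := A') (R := A' ⧸ N) (M := A' ⧸ N) Ideal.Quotient.mk_surjective).symm
  have h3 : len Qb ((maximalIdeal (A' ⧸ N)).map (algebraMap (A' ⧸ N) ((A' ⊗[A] C) ⧸ (fibIdeal (A := A) C N q)))) =
      len Q (fibIdeal (A := A) C (maximalIdeal A') q) := by
    rw [← len_mk (fibIdeal (A := A) C N q) Qb]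
    congr 1
    rw [hmap, Ideal.map_map, show (algebraMap (A' ⧸ N) ((A' ⊗[A] C) ⧸ (fibIdeal (A := A) C N q))).comp (Ideal.Quotient.mk N) =
      (Ideal.Quotient.mk (fibIdeal (A := A) C N q)).comp (algebraMap A' (A' ⊗[A] C)) from rfl, ← Ideal.map_map,
      Ideal.comap_map_of_surjective' _ Ideal.Quotient.mk_surjective, Ideal.mk_ker]
    refine le_antisymm (sup_le le_sup_left hle) (sup_le le_sup_left ?_)
    exact (le_sup_right : _ ≤ (fibIdeal (A := A) C N q)).trans le_sup_right
  rw [Ideal.map_bot, h1, h2, h3] at h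
  exact h

/-- The multiplicity of the fibre over `q` is that of the closed fibre times the reduced one. -/
theorem len_fibre (Q : Ideal (A' ⊗[A] C)) [Q.IsPrime] (hQ : fibIdeal (A := A) C (maximalIdeal A') q ≤ Q) :
    len Q (q.map (algebraMap C (A' ⊗[A] C))) =
      Module.length A' (A' ⧸ (maximalIdeal A).map (algebraMap A A')) *
        len Q (fibIdeal (A := A) C (maximalIdeal A') q) := by
  rw [← fibIdeal_map_max q]
  exact len_fibre_aux _ le_rfl q map_max_le Q hQ

variable [Finite (MaximalSpectrum (A' ⊗[A] C))]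

open Classical in
/-- The norm to the residue field through the fibre. -/
theorem norm_fibre (c : C) :
    ResidueField.map (algebraMap A A') (nrm (A := A) q c) =
      ∏ Q ∈ (Fintype.ofFinite (MaximalSpectrum (A' ⊗[A] C))).elems.filter
          (fun Q => Q.asIdeal.comap (algebraMap C (A' ⊗[A] C)) = q),
        nrm (A := A') Q.asIdeal (algebraMap C (A' ⊗[A] C) c) ^
          (len Q.asIdeal (fibIdeal (A := A) C (maximalIdeal A') q)).toNat := by
  letI := baseAlg (A := A) (maximalIdeal A') map_max_le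
  letI : Field (A ⧸ maximalIdeal A) := Ideal.Quotient.field _
  letI : Field (A' ⧸ maximalIdeal A') := Ideal.Quotient.field _
  set M := fibIdeal (A := A) C (maximalIdeal A') q with hM
  set R := (A' ⊗[A] C) ⧸ M
  letI : Algebra (A' ⧸ maximalIdeal A') R :=
    Ideal.Quotient.algebraQuotientOfLEComap (Ideal.map_le_iff_le_comap.1 le_sup_left)
  haveI : Module.Finite (A' ⧸ maximalIdeal A') R := (flat_fibre _ map_max_le q).2
  haveI : IsArtinianRing R := IsArtinianRing.of_finite (A' ⧸ maximalIdeal A') R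
  haveI := finite_quot (A := A) q
  letI := Fintype.ofFinite (PrimeSpectrum R)
  obtain ⟨e, he⟩ := exists_equiv (maximalIdeal A') (map_max_le (A := A)) q
  let f : R := Ideal.Quotient.mk M (algebraMap C (A' ⊗[A] C) c)
  -- the norm of the class on the fibre
  have hleft : LinearMap.det (kmul (A' ⧸ maximalIdeal A') f R) =
      algebraMap (A ⧸ maximalIdeal A) (A' ⧸ maximalIdeal A') (nrm (A := A) q c) := by
    rw [show f = e (1 ⊗ₜ Ideal.Quotient.mk q c) from (he c).symm, nrm_apply]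
    exact det_kmul_eq_norm _ _ _ _ e _
  show algebraMap (A ⧸ maximalIdeal A) (A' ⧸ maximalIdeal A') (nrm (A := A) q c) = _
  rw [← hleft, det_kmul_eq_prod _ f R Finset.univ (fun P _ => inferInstance) (fun P _ => Finset.mem_univ P)]
  have hPmax : ∀ P : PrimeSpectrum R, (P.asIdeal.comap (Ideal.Quotient.mk M)).IsMaximal := fun P =>
    Ideal.comap_isMaximal_of_surjective _ Ideal.Quotient.mk_surjective
  have hcomap : ∀ P : PrimeSpectrum R,
      (P.asIdeal.comap (Ideal.Quotient.mk M)).comap (algebraMap C (A' ⊗[A] C)) = q := fun P => by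
    refine ((‹q.IsMaximal›).eq_of_le (Ideal.IsPrime.ne_top inferInstance) fun x hx => ?_).symm
    rw [Ideal.mem_comap, Ideal.mem_comap, Ideal.Quotient.eq_zero_iff_mem.2
      (Ideal.mem_sup_right (Ideal.mem_map_of_mem _ hx))]
    exact zero_mem _
  refine Finset.prod_bij (fun P _ => ⟨P.asIdeal.comap (Ideal.Quotient.mk M), hPmax P⟩) ?_ ?_ ?_ ?_
  · intro P _
    exact Finset.mem_filter.2 ⟨(Fintype.ofFinite (MaximalSpectrum (A' ⊗[A] C))).complete _, hcomap P⟩
  · intro P _ P' _ h
    exact PrimeSpectrum.ext (Ideal.comap_injective_of_surjective _ Ideal.Quotient.mk_surjective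
      (congrArg MaximalSpectrum.asIdeal h))
  · intro Q hQ
    have hle : M ≤ Q.asIdeal := by
      refine sup_le ?_ (Ideal.map_le_iff_le_comap.2 (Finset.mem_filter.1 hQ).2.ge)
      rw [Ideal.map_le_iff_le_comap]
      exact (eq_maximalIdeal (Ideal.isMaximal_comap_of_isIntegral_of_isMaximal (R := A') Q.asIdeal)).ge
    exact ⟨⟨_, Ideal.isPrime_map_quotientMk_of_isPrime hle⟩, Finset.mem_univ _,
      MaximalSpectrum.ext (Ideal.comap_map_mk hle)⟩
  · intro P _
    haveI := hPmax P
    congr 1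
    · rw [nrm_apply]
      have hbij : Function.Bijective (Ideal.quotientMap P.asIdeal (Ideal.Quotient.mk M) le_rfl) :=
        ⟨Ideal.quotientMap_injective, Ideal.quotientMap_surjective Ideal.Quotient.mk_surjective⟩
      letI : Algebra (A' ⧸ maximalIdeal A') (R ⧸ P.asIdeal) := Ideal.instAlgebraQuotient (A' ⧸ maximalIdeal A') P.asIdeal
      let E : ((A' ⊗[A] C) ⧸ P.asIdeal.comap (Ideal.Quotient.mk M)) ≃ₐ[A' ⧸ maximalIdeal A'] (R ⧸ P.asIdeal) :=
        { RingEquiv.ofBijective _ hbij with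
          commutes' := fun x => by
            obtain ⟨x, rfl⟩ := Ideal.Quotient.mk_surjective x
            rfl }
      exact Algebra.norm_eq_of_algEquiv E (Ideal.Quotient.mk _ _)
    · congr 1
      rw [← locLen_congr P (Submodule.quotEquivOfEqBot (⊥ : Ideal R) rfl)]
      show locLen (pt P.asIdeal) (R ⧸ (⊥ : Ideal R)) = _
      rw [locLen_eq_len, ← len_mk M P.asIdeal ⊥, ← RingHom.ker_eq_comap_bot, Ideal.mk_ker]

end main

end GrothLib.TameFlat13
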