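import Groth.Agent.Lib.Tame.Fibre
import Mathlib.RingTheory.LocalRing.Length
import Mathlib.RingTheory.RingHom.Surjective
import Mathlib.RingTheory.Flat.Localization
import Mathlib.RingTheory.RingHom.Flat

/-! Local lengths of cyclic modules along flat maps and surjections. -/

set_option autoImplicit false
universe u

namespace GrothLib.TameFlat13

open IsLocalRing GrothLib.LengthDet GrothLib.Tame

/-- The length at `q` of `B ⧸ I`. -/
noncomputable def len {B : Type u} [CommRing B] (q : Ideal B) [q.IsPrime] (I : Ideal B) : ℕ∞ :=
  Module.length (Localization.AtPrime q) (Localization.AtPrime q ⧸ I.map (algebraMap B (Localization.AtPrime q)))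

theorem locLen_eq_len {B : Type u} [CommRing B] (q : Ideal B) [q.IsPrime] (I : Ideal B) :
    locLen (pt q) (B ⧸ I) = len q I :=
  GrothLib.CycDiv.length_localized_quot q (Localization.AtPrime q) I

theorem ord_eq_len {B : Type u} [CommRing B] (q : Ideal B) [q.IsPrime] (x : B) :
    Ring.ord (Localization.AtPrime q) (algebraMap B (Localization.AtPrime q) x) = len q (Ideal.span {x}) := by
  rw [len, Ideal.map_span, Set.image_singleton]
  rfl

section flat

variable {B B' : Type u} [CommRing B] [CommRing B'] [Algebra B B'] [Module.Flat B B']

theorem flat_point (q : Ideal B) [q.IsPrime] (Q : Ideal B') [Q.IsPrime] (hQ : Q.comap (algebraMap B B') = q) :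
    (Localization.localRingHom q Q (algebraMap B B') hQ.symm).Flat := by
  algebraize [Localization.localRingHom q Q (algebraMap B B') hQ.symm]
  haveI : IsScalarTower B (Localization.AtPrime q) (Localization.AtPrime Q) :=
    IsScalarTower.of_algebraMap_eq fun x => by
      rw [RingHom.algebraMap_toAlgebra, Localization.localRingHom_to_map, ← IsScalarTower.algebraMap_apply]
  haveI : Module.Flat B' (Localization.AtPrime Q) := IsLocalization.flat _ Q.primeCompl
  haveI : Module.Flat B (Localization.AtPrime Q) := Module.Flat.trans B B' _
  exact (Module.flat_iff_of_isLocalization (Localization.AtPrime q) q.primeCompl _).2 inferInstance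

/-- Lengths multiply along flat maps. -/
theorem len_map (q : Ideal B) [q.IsPrime] (Q : Ideal B') [Q.IsPrime] (hQ : Q.comap (algebraMap B B') = q)
    (I : Ideal B) :
    len Q (I.map (algebraMap B B')) = len q I * len Q (q.map (algebraMap B B')) := by
  have hf := flat_point q Q hQ
  algebraize [Localization.localRingHom q Q (algebraMap B B') hQ.symm]
  haveI : IsLocalHom (algebraMap (Localization.AtPrime q) (Localization.AtPrime Q)) :=
    Localization.isLocalHom_localRingHom q Q (algebraMap B B') hQ.symm
  have hmap : ∀ J : Ideal B, (J.map (algebraMap B (Localization.AtPrime q))).map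
      (algebraMap (Localization.AtPrime q) (Localization.AtPrime Q)) =
      (J.map (algebraMap B B')).map (algebraMap B' (Localization.AtPrime Q)) := by
    intro J
    rw [Ideal.map_map, Ideal.map_map]
    congr 1
    ext x
    rw [RingHom.comp_apply, RingHom.comp_apply, RingHom.algebraMap_toAlgebra, Localization.localRingHom_to_map]
  have h := IsLocalRing.length_baseChange (Localization.AtPrime q) (Localization.AtPrime Q)
    (Localization.AtPrime q ⧸ I.map (algebraMap B (Localization.AtPrime q)))
  rw [← (Algebra.TensorProduct.quotIdealMapEquivTensorQuot (Localization.AtPrime Q)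
      (I.map (algebraMap B (Localization.AtPrime q)))).toLinearEquiv.length_eq,
    ← Localization.AtPrime.map_eq_maximalIdeal] at h
  unfold len
  rw [← hmap I, ← hmap q]
  exact h

end flat

section surjective

variable {B R : Type u} [CommRing B] [CommRing R]

/-- Lengths transfer along surjections. -/
theorem len_comap (g : B →+* R) (hg : Function.Surjective g) (q : Ideal B) [q.IsPrime] (Q : Ideal R) [Q.IsPrime]
    (hQ : Q.comap g = q) (J : Ideal R) : len q (J.comap g) = len Q J := by
  subst hQ
  have hs := RingHom.surjective_localRingHom_of_surjective g hg Q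
  set Bq := Localization.AtPrime (Q.comap g)
  set RQ := Localization.AtPrime Q
  let φ : Bq →+* RQ := Localization.localRingHom (Q.comap g) Q g rfl
  letI : Algebra Bq RQ := φ.toAlgebra
  have hker : (J.map (algebraMap R RQ)).comap φ = (J.comap g).map (algebraMap B Bq) := by
    refine le_antisymm (fun x hx => ?_) ?_
    · obtain ⟨b, s, rfl⟩ := IsLocalization.exists_mk'_eq (Q.comap g).primeCompl x
      rw [Ideal.mem_comap, Localization.localRingHom_mk', IsLocalization.mk'_mem_map_algebraMap_iff] at hx
      obtain ⟨t, ht, hmem⟩ := hx
      obtain ⟨t, rfl⟩ := hg t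
      rw [IsLocalization.mk'_mem_map_algebraMap_iff]
      exact ⟨t, ht, by rw [Ideal.mem_comap, map_mul]; exact hmem⟩
    · rw [Ideal.map_le_iff_le_comap]
      intro b hb
      rw [Ideal.mem_comap, Ideal.mem_comap, Localization.localRingHom_to_map]
      exact Ideal.mem_map_of_mem _ hb
  unfold len
  rw [← Module.length_eq_of_surjective (S := Bq) (R := RQ) (M := RQ ⧸ J.map (algebraMap R RQ)) hs]
  let f : Bq →ₗ[Bq] RQ ⧸ J.map (algebraMap R RQ) :=
    ((J.map (algebraMap R RQ)).mkQ.restrictScalars Bq).comp (Algebra.linearMap Bq RQ)
  have hf : Function.Surjective f := (Submodule.mkQ_surjective _).comp hs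
  refine LinearEquiv.length_eq ((Submodule.quotEquivOfEq _ _ ?_).trans (f.quotKerEquivOfSurjective hf))
  rw [← hker]
  ext x
  rw [LinearMap.mem_ker, Ideal.mem_comap]
  exact (Submodule.Quotient.mk_eq_zero _).symm

theorem len_mk {B : Type u} [CommRing B] (N : Ideal B) (Q : Ideal (B ⧸ N)) [Q.IsPrime] (J : Ideal (B ⧸ N)) :
    len (Q.comap (Ideal.Quotient.mk N)) (J.comap (Ideal.Quotient.mk N)) = len Q J :=
  len_comap _ Ideal.Quotient.mk_surjective _ Q rfl J

/-- In a local ring the length at the maximal ideal is the length. -/
theorem len_maximalIdeal [IsLocalRing B] (I : Ideal B) :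
    len (maximalIdeal B) I = Module.length B (B ⧸ I) := by
  haveI : IsLocalization.AtPrime B (maximalIdeal B) :=
    IsLocalization.self fun s hs => notMem_maximalIdeal.1 hs
  rw [← locLen_eq_len, locLen, GrothLib.CycDiv.length_localized_quot (maximalIdeal B) B I,
    show algebraMap B B = RingHom.id B from rfl, Ideal.map_id]

end surjective

end GrothLib.TameFlat13
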